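import Cfsg.Agent.Coprime.Generation
import Cfsg.Agent.Coprime.Elementary

/-!
The iterated nilpotent residual of a subgroup, and how its last term survives in the fixed points of
a large subgroup of an elementary abelian group acting coprimely.
-/

set_option autoImplicit false

open Subgroup
open scoped Pointwise commutatorElement

namespace Cfsg.Agent.CoprimeFitting

universe u

variable {G : Type u} [Group G]

/-- The nilpotent residual of a subgroup. -/
def nres (H : Subgroup G) : Subgroup G := ⨅ k : ℕ, H.lowerCentralSeries k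

/-- The iterated nilpotent residual. -/
def ser (H : Subgroup G) : ℕ → Subgroup G
  | 0 => H
  | m + 1 => nres (ser H m)

theorem nres_mono {H K : Subgroup G} (h : H ≤ K) : nres H ≤ nres K := by
  refine iInf_mono fun k => ?_
  induction k with
  | zero => exact h
  | succ k ih => exact commutator_mono ih h

theorem nres_le (H : Subgroup G) : nres H ≤ H := iInf_le_of_le 0 le_rfl

theorem ser_mono {H K : Subgroup G} (h : H ≤ K) (m : ℕ) : ser H m ≤ ser K m := by
  induction m with
  | zero => exact h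
  | succ m ih => exact nres_mono ih

theorem ser_succ_le (H : Subgroup G) (m : ℕ) : ser H (m + 1) ≤ ser H m := nres_le _

theorem ser_le (H : Subgroup G) (m : ℕ) : ser H m ≤ H := by
  induction m with
  | zero => exact le_rfl
  | succ m ih => exact (nres_le _).trans ih

theorem ser_ser (H : Subgroup G) (m k : ℕ) : ser (ser H m) k = ser H (m + k) := by
  induction k with
  | zero => rfl
  | succ k ih => rw [← Nat.add_assoc]; change nres (ser (ser H m) k) = nres (ser H (m + k)); rw [ih]

theorem le_normalizer_lcs {H A : Subgroup G} (h : A ≤ normalizer (H : Set G)) (k : ℕ) :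
    A ≤ normalizer (H.lowerCentralSeries k : Set G) := by
  intro a ha
  have hH : H.map (MulAut.conj a).toMonoidHom = H := by
    ext x
    rw [Subgroup.mem_map]
    constructor
    · rintro ⟨y, hy, rfl⟩
      exact (Subgroup.mem_normalizer_iff.mp (h ha) y).mp hy
    · intro hx
      refine ⟨a⁻¹ * x * a, ?_, by simp [mul_assoc]⟩
      rw [Subgroup.mem_normalizer_iff.mp (h ha)]
      simpa [mul_assoc] using hx
  have h2 := Subgroup.map_lowerCentralSeries H (MulAut.conj a).toMonoidHom k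
  rw [hH] at h2
  rw [Subgroup.mem_normalizer_iff]
  intro x
  have h3 : (MulAut.conj a).toMonoidHom x = a * x * a⁻¹ := rfl
  constructor
  · intro hx
    rw [← h2, ← h3]
    exact Subgroup.mem_map_of_mem _ hx
  · intro hx
    rw [← h2, ← h3] at hx
    obtain ⟨y, hy, he⟩ := hx
    rw [← (MulAut.conj a).injective he]
    exact hy

theorem le_normalizer_nres {H A : Subgroup G} (h : A ≤ normalizer (H : Set G)) :
    A ≤ normalizer (nres H : Set G) := by
  intro a ha
  rw [Subgroup.mem_normalizer_iff]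
  intro x
  simp only [nres, Subgroup.mem_iInf]
  exact forall_congr' fun k => Subgroup.mem_normalizer_iff.mp (le_normalizer_lcs h k ha) x

theorem le_normalizer_ser {H A : Subgroup G} (h : A ≤ normalizer (H : Set G)) (m : ℕ) :
    A ≤ normalizer (ser H m : Set G) := by
  induction m with
  | zero => exact h
  | succ m ih => exact le_normalizer_nres ih

theorem normal_ser {H : Subgroup G} [H.Normal] (m : ℕ) : (ser H m).Normal := by
  have h : ⊤ ≤ normalizer (ser H m : Set G) := le_normalizer_ser le_normalizer_of_normal m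
  exact normalizer_eq_top_iff.mp (top_le_iff.mp h)

theorem exists_nres_eq [Finite G] (H : Subgroup G) :
    ∃ N : ℕ, ∀ k, N ≤ k → H.lowerCentralSeries k = nres H := by
  obtain ⟨m, ⟨N, rfl⟩, hmin⟩ := (Set.toFinite (Set.range H.lowerCentralSeries)).exists_minimalFor id
    (Set.range H.lowerCentralSeries) (Set.range_nonempty _)
  refine ⟨N, fun k hk => le_antisymm (le_iInf fun j => ?_) (iInf_le _ _)⟩
  have h1 : H.lowerCentralSeries k ≤ H.lowerCentralSeries N := H.lowerCentralSeries_antitone hk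
  rcases le_total j k with hj | hj
  · exact H.lowerCentralSeries_antitone hj
  · have h2 : H.lowerCentralSeries N ≤ H.lowerCentralSeries j :=
      hmin ⟨j, rfl⟩ (H.lowerCentralSeries_antitone (hk.trans hj))
    exact h1.trans h2

theorem map_nres [Finite G] {G' : Type*} [Group G'] [Finite G'] (f : G →* G') (H : Subgroup G) :
    (nres H).map f = nres (H.map f) := by
  obtain ⟨N, hN⟩ := exists_nres_eq H
  obtain ⟨M, hM⟩ := exists_nres_eq (H.map f)
  rw [← hN (max N M) (le_max_left _ _), ← hM (max N M) (le_max_right _ _),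
    Subgroup.map_lowerCentralSeries]

theorem map_ser [Finite G] {G' : Type*} [Group G'] [Finite G'] (f : G →* G') (H : Subgroup G)
    (m : ℕ) : (ser H m).map f = ser (H.map f) m := by
  induction m with
  | zero => rfl
  | succ m ih => rw [ser, ser, map_nres, ih]

theorem isNilpotent_of_nres [Finite G] {H : Subgroup G} (h : nres H = ⊥) : Group.IsNilpotent H := by
  obtain ⟨N, hN⟩ := exists_nres_eq H
  exact (Subgroup.isNilpotent_iff_lowerCentralSeries H).mpr ⟨N, (hN N le_rfl).trans h⟩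

theorem nres_of_isNilpotent {H : Subgroup G} (h : Group.IsNilpotent H) : nres H = ⊥ := by
  obtain ⟨N, hN⟩ := (Subgroup.isNilpotent_iff_lowerCentralSeries H).mp h
  exact le_bot_iff.mp ((iInf_le _ N).trans_eq hN)

theorem ser_le_derived (H : Subgroup G) (m : ℕ) : ser H (m + 1) ≤ ⁅ser H m, ser H m⁆ :=
  iInf_le _ 1

/-- A solvable subgroup has a trivial term. -/
theorem exists_ser_eq_bot (H : Subgroup G) (hH : Group.IsSolvable H) : ∃ m, ser H m = ⊥ := by
  obtain ⟨m, hm⟩ := hH.solvable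
  refine ⟨m, le_bot_iff.mp ?_⟩
  have h : ∀ k, ser H k ≤ (derivedSeries H k).map H.subtype := by
    intro k
    induction k with
    | zero => rw [derivedSeries_zero, ← MonoidHom.range_eq_map, H.range_subtype]; exact le_rfl
    | succ k ih =>
      rw [derivedSeries_succ, Subgroup.map_commutator]
      exact (ser_le_derived H k).trans (commutator_mono ih ih)
  refine (h m).trans ?_
  rw [hm, Subgroup.map_bot]

/-- A chain with nilpotent factors bounds the series. -/
theorem ser_le_chain {n : ℕ} (F : Fin (n + 1) → Subgroup G) (hlast : F (Fin.last n) = ⊤)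
    (hF : ∀ i : Fin n, ∃ k : ℕ, (F i.succ).lowerCentralSeries k ≤ F i.castSucc) (j : ℕ) (hj : j ≤ n) :
    ser ⊤ j ≤ F ⟨n - j, by omega⟩ := by
  induction j with
  | zero => rw [show (⟨n - 0, by omega⟩ : Fin (n + 1)) = Fin.last n from Fin.ext (by simp), hlast]; exact le_rfl
  | succ j ih =>
    obtain ⟨k, hk⟩ := hF ⟨n - (j + 1), by omega⟩
    have h1 := nres_mono (ih (by omega))
    refine h1.trans ((iInf_le _ k).trans ?_)
    rw [show (⟨n - j, by omega⟩ : Fin (n + 1)) = Fin.succ ⟨n - (j + 1), by omega⟩ from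
      Fin.ext (by simp; omega)]
    exact hk

/-- A vanishing term gives a chain with nilpotent factors. -/
theorem exists_chain [Finite G] {n : ℕ} (h : ser (⊤ : Subgroup G) n = ⊥) :
    ∃ F : Fin (n + 1) → Subgroup G, F 0 = ⊥ ∧ F (Fin.last n) = ⊤ ∧ Monotone F ∧ (∀ i, (F i).Normal) ∧
      ∀ i : Fin n, ∃ k : ℕ, (F i.succ).lowerCentralSeries k ≤ F i.castSucc := by
  refine ⟨fun i => ser ⊤ (n - i), by simpa using h, by simp [ser], ?_, fun i => normal_ser _, ?_⟩
  · intro i j hij
    have hij' : (i : ℕ) ≤ j := hij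
    obtain ⟨d, hd⟩ := Nat.exists_eq_add_of_le (show n - (j : ℕ) ≤ n - i by omega)
    dsimp only
    rw [hd, ← ser_ser]
    exact ser_le _ _
  · intro i
    obtain ⟨N, hN⟩ := exists_nres_eq (ser (⊤ : Subgroup G) (n - (i.succ : ℕ)))
    refine ⟨N, (hN N le_rfl).trans_le (le_of_eq ?_)⟩
    have e : n - (i.castSucc : ℕ) = n - (i.succ : ℕ) + 1 := by
      simp only [Fin.val_succ, Fin.val_castSucc]; omega
    change nres (ser ⊤ (n - (i.succ : ℕ))) = ser ⊤ (n - (i.castSucc : ℕ))
    rw [e]; rfl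

/-- Some prime other than `r` divides the order. -/
def OffPrime (r : ℕ) (H : Subgroup G) : Prop := ∃ q, q.Prime ∧ q ≠ r ∧ q ∣ Nat.card H

theorem offPrime_mono {r : ℕ} {H K : Subgroup G} (h : H ≤ K) (hH : OffPrime r H) : OffPrime r K := by
  obtain ⟨q, hq, hqr, hd⟩ := hH
  exact ⟨q, hq, hqr, hd.trans (card_dvd_of_le h)⟩

theorem exists_elem {r : ℕ} [Finite G] {H : Subgroup G} (hH : OffPrime r H) :
    ∃ q, q.Prime ∧ q ≠ r ∧ ∃ x ∈ H, orderOf x = q := by
  obtain ⟨q, hq, hqr, hd⟩ := hH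
  haveI := Fact.mk hq
  obtain ⟨x, hx⟩ := exists_prime_orderOf_dvd_card' q hd
  exact ⟨q, hq, hqr, x, x.2, by rw [Subgroup.orderOf_coe]; exact hx⟩

theorem offPrime_of_elem {r q : ℕ} (hq : q.Prime) (hqr : q ≠ r) {H : Subgroup G} {x : G} (hx : x ∈ H)
    {k : ℕ} (hk : x ^ q ^ k = 1) (hx1 : x ≠ 1) : OffPrime r H := by
  obtain ⟨j, hj, he⟩ := (Nat.dvd_prime_pow hq).mp (orderOf_dvd_of_pow_eq_one hk)
  have hd : orderOf x ∣ Nat.card H := Subgroup.orderOf_dvd_natCard H hx
  rcases Nat.eq_zero_or_pos j with rfl | hjp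
  · exact absurd (orderOf_eq_one_iff.mp (by simpa using he)) hx1
  · refine ⟨q, hq, hqr, ?_⟩
    rw [he] at hd
    exact (dvd_pow_self q hjp.ne').trans hd

/-- The elements of `q`-power order of a nilpotent normal subgroup form a normal subgroup. -/
theorem exists_sylow_normal [Finite G] {T : Subgroup G} [T.Normal] (hT : Group.IsNilpotent T) (q : ℕ)
    [Fact q.Prime] :
    ∃ Q : Subgroup G, Q.Normal ∧ Q ≤ T ∧ IsPGroup q Q ∧ ∀ x ∈ T, ∀ k, x ^ q ^ k = 1 → x ∈ Q := by
  haveI := hT
  obtain ⟨P⟩ : Nonempty (Sylow q T) := inferInstance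
  have hPn : (P : Subgroup T).Normal := inferInstance
  have hPu : ∀ x : T, ∀ k, x ^ q ^ k = 1 → x ∈ (P : Subgroup T) := by
    intro x k hk
    have hz : IsPGroup q (zpowers x) := by
      rintro ⟨y, hy⟩
      obtain ⟨i, rfl⟩ := mem_zpowers_iff.mp hy
      refine ⟨k, Subtype.ext ?_⟩
      change (x ^ i) ^ q ^ k = 1
      rw [← zpow_natCast (x ^ i), ← zpow_mul, mul_comm, zpow_mul, zpow_natCast, hk, one_zpow]
    obtain ⟨Q, hQ⟩ := hz.exists_le_sylow
    haveI := Sylow.unique_of_normal P hPn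
    rw [Subsingleton.elim P Q]
    exact hQ (mem_zpowers x)
  have hPc : (P : Subgroup T).Characteristic := Sylow.characteristic_of_normal P hPn
  refine ⟨(P : Subgroup T).map T.subtype, inferInstance, map_subtype_le _,
    IsPGroup.map P.isPGroup' _, fun x hx k hk =>
      ⟨⟨x, hx⟩, hPu _ k (Subtype.ext hk), rfl⟩⟩

theorem exists_minimal_normal [Finite G] {K : Subgroup G} [K.Normal] (hK : K ≠ ⊥) :
    ∃ V : Subgroup G, V.Normal ∧ V ≤ K ∧ V ≠ ⊥ ∧
      ∀ W : Subgroup G, W.Normal → W ≠ ⊥ → W ≤ V → W = V := by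
  obtain ⟨V, hV, hmin⟩ := wellFounded_lt.has_min {W : Subgroup G | W.Normal ∧ W ≤ K ∧ W ≠ ⊥}
    ⟨K, inferInstance, le_rfl, hK⟩
  exact ⟨V, hV.1, hV.2.1, hV.2.2, fun W hWn hW1 hW =>
    eq_of_le_of_not_lt hW (hmin W ⟨hWn, hW.trans hV.2.1, hW1⟩)⟩

/-- Commutation with an element fixing a commutator is linear. -/
theorem commute_of_commutator_fixed {x l : G} {s q j i : ℕ} (hs : s.Prime) (hq : q.Prime)
    (hsq : s ≠ q) (hl : l ^ s ^ j = 1) (hc : (⁅l, x⁆) ^ q ^ i = 1)
    (hw : Commute l ⁅l, x⁆) : ⁅l, x⁆ = 1 := by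
  have h : ∀ m : ℕ, l ^ m * x * (l ^ m)⁻¹ = ⁅l, x⁆ ^ m * x := by
    intro m
    induction m with
    | zero => simp
    | succ m ih =>
      calc l ^ (m + 1) * x * (l ^ (m + 1))⁻¹ = l * (l ^ m * x * (l ^ m)⁻¹) * l⁻¹ := by
            rw [pow_succ']; group
        _ = l * (⁅l, x⁆ ^ m * x) * l⁻¹ := by rw [ih]
        _ = ⁅l, x⁆ ^ m * (l * x * l⁻¹) := by
            rw [← mul_assoc, (hw.pow_right m).eq]; group
        _ = ⁅l, x⁆ ^ m * (⁅l, x⁆ * x) := by rw [commutatorElement_def l x]; group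
        _ = ⁅l, x⁆ ^ (m + 1) * x := by rw [pow_succ, mul_assoc]
  have h1 := h (s ^ j)
  rw [hl] at h1
  have h2 : ⁅l, x⁆ ^ s ^ j = 1 := by
    have h3 : 1 * x = ⁅l, x⁆ ^ s ^ j * x := by simpa using h1
    exact (mul_right_cancel h3).symm
  have h4 := Nat.dvd_gcd (orderOf_dvd_of_pow_eq_one h2) (orderOf_dvd_of_pow_eq_one hc)
  rw [((Nat.coprime_primes hs hq).mpr hsq).pow j i] at h4
  exact orderOf_eq_one_iff.mp (Nat.eq_one_of_dvd_one h4)

end Cfsg.Agent.CoprimeFitting
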